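import Mathlib

/-! Reducedness of `Proj`, density and closed immersion properties of `Proj.map`. -/

set_option autoImplicit false
set_option linter.style.haveILetI false
set_option backward.isDefEq.respectTransparency false
universe u
open CategoryTheory CategoryTheory.Limits AlgebraicGeometry

noncomputable section

namespace Groth.Agent.ProjRed

variable {A σ B τ : Type u} [CommRing A] [SetLike σ A] [AddSubgroupClass σ A] {𝒜 : ℕ → σ} [GradedRing 𝒜]
  [CommRing B] [SetLike τ B] [AddSubgroupClass τ B] {ℬ : ℕ → τ} [GradedRing ℬ]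

lemma mem_irrelevant {n : ℕ} (hn : 0 < n) {x : A} (hx : x ∈ 𝒜 n) :
    x ∈ (HomogeneousIdeal.irrelevant 𝒜).toIdeal := by
  rw [HomogeneousIdeal.mem_iff, HomogeneousIdeal.mem_irrelevant_iff, GradedRing.proj_apply,
    DirectSum.decompose_of_mem_ne 𝒜 hx hn.ne']

lemma isReduced (hred : ∀ f ∈ (HomogeneousIdeal.irrelevant 𝒜).toIdeal, IsNilpotent f → f = 0) :
    AlgebraicGeometry.IsReduced (Proj 𝒜) := by
  haveI : ∀ i, AlgebraicGeometry.IsReduced ((Proj.affineOpenCover 𝒜).openCover.X i) := by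
    rintro ⟨⟨d, hd⟩, f, hf⟩
    change AlgebraicGeometry.IsReduced (Spec (CommRingCat.of (HomogeneousLocalization.Away 𝒜 f)))
    haveI : _root_.IsReduced (HomogeneousLocalization.Away 𝒜 f) := ⟨fun x hx => by
      obtain ⟨n, a, ha, rfl⟩ := HomogeneousLocalization.Away.mk_surjective 𝒜 hf x
      obtain ⟨k, hk⟩ := hx
      have h : (HomogeneousLocalization.Away.mk 𝒜 hf n a ha).val ^ k = 0 := by
        rw [← HomogeneousLocalization.val_pow, hk, HomogeneousLocalization.val_zero]
      rw [HomogeneousLocalization.Away.val_mk, Localization.mk_pow, ← Localization.mk_zero 1,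
        Localization.mk_eq_mk_iff, Localization.r_iff_exists] at h
      obtain ⟨⟨_, m, rfl⟩, hm⟩ := h
      simp only [OneMemClass.coe_one, one_mul, mul_zero] at hm
      have hnil : IsNilpotent (a * f) := ⟨k + m, by
        rw [mul_pow, pow_add, pow_add]
        linear_combination (a ^ m * f ^ k) * hm⟩
      have h0 := hred _ (mem_irrelevant (by simpa using Nat.lt_add_left (n • d) hd)
        (SetLike.mul_mem_graded ha hf)) hnil
      ext
      rw [HomogeneousLocalization.Away.val_mk, HomogeneousLocalization.val_zero,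
        ← Localization.mk_zero 1, Localization.mk_eq_mk_iff, Localization.r_iff_exists]
      exact ⟨⟨f, Submonoid.mem_powers f⟩, by simpa [mul_comm] using h0⟩⟩
    exact inferInstance
  exact AlgebraicGeometry.IsReduced.of_openCover _ (Proj.affineOpenCover 𝒜).openCover

lemma exists_not_mem (x : Proj 𝒜) :
    ∃ (d : ℕ) (f : A), 0 < d ∧ f ∈ 𝒜 d ∧ f ∉ x.asHomogeneousIdeal := by
  classical
  by_contra! h
  refine x.not_irrelevant_le ?_
  intro z hz
  rw [← DirectSum.sum_support_decompose 𝒜 z]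
  refine Ideal.sum_mem _ fun i _ => ?_
  rcases Nat.eq_zero_or_pos i with rfl | hi
  · rw [← GradedRing.proj_apply, (HomogeneousIdeal.mem_irrelevant_iff 𝒜 z).1 hz]
    exact zero_mem _
  · exact h i _ hi (SetLike.coe_mem _)

variable (φ : 𝒜 →+*ᵍ ℬ) (hφ : HomogeneousIdeal.irrelevant ℬ ≤ (HomogeneousIdeal.irrelevant 𝒜).map φ)

lemma away_map_surjective (hsurj : Function.Surjective φ) {d : ℕ} {f : A} (hf : f ∈ 𝒜 d) :
    Function.Surjective (HomogeneousLocalization.Away.map φ f) := by
  intro x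
  obtain ⟨n, b, hb, rfl⟩ := HomogeneousLocalization.Away.mk_surjective ℬ (φ.2 hf) x
  obtain ⟨a, rfl⟩ := hsurj b
  refine ⟨HomogeneousLocalization.Away.mk 𝒜 hf n _ (SetLike.coe_mem (DirectSum.decompose 𝒜 a (n • d))), ?_⟩
  have h : φ (DirectSum.decompose 𝒜 a (n • d) : A) = φ a := by
    rw [GradedRingHom.map_directSumDecompose, DirectSum.decompose_of_mem_same ℬ hb]
  rw [HomogeneousLocalization.Away.map_mk]
  ext
  simp only [HomogeneousLocalization.Away.val_mk, h]
  rfl

lemma isClosedImmersion_map (hsurj : Function.Surjective φ) : IsClosedImmersion (Proj.map φ hφ) := by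
  refine IsZariskiLocalAtTarget.of_openCover (Proj.affineOpenCover 𝒜).openCover ?_
  rintro ⟨⟨d, hd⟩, f, hf⟩
  have hpb : IsPullback (Spec.map (CommRingCat.ofHom (HomogeneousLocalization.Away.map φ f)))
      (Proj.awayι ℬ (φ f) (φ.2 hf) hd) (Proj.awayι 𝒜 f hf hd) (Proj.map φ hφ) := by
    refine IsOpenImmersion.isPullback _ _ _ _ (Proj.awayι_comp_map φ hφ hd f hf) ?_
    rw [Proj.opensRange_awayι, Proj.opensRange_awayι]
    exact Proj.map_preimage_basicOpen φ hφ f
  haveI := IsClosedImmersion.spec_of_surjective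
    (CommRingCat.ofHom (HomogeneousLocalization.Away.map φ f)) (away_map_surjective φ hsurj hf)
  change IsClosedImmersion (pullback.snd (Proj.map φ hφ) (Proj.awayι 𝒜 f hf hd))
  rw [← hpb.flip.isoPullback_inv_snd]
  infer_instance

lemma denseRange_map (hker : ∀ a : A, φ a = 0 → IsNilpotent a) :
    DenseRange (Proj.map φ hφ).base := by
  rw [DenseRange, dense_iff_inter_open]
  rintro U hU ⟨x, hx⟩
  obtain ⟨-, ⟨V, hV, rfl⟩, hxV, hVU⟩ :=
    (ProjectiveSpectrum.isTopologicalBasis_basic_opens 𝒜).exists_subset_of_mem_open hx hU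
  obtain ⟨i, hi⟩ : ∃ i, (DirectSum.decompose 𝒜 V i : A) ∉ x.asHomogeneousIdeal := by
    classical
    by_contra! h
    refine hxV ?_
    rw [← DirectSum.sum_support_decompose 𝒜 V]
    exact Ideal.sum_mem _ fun i _ => h i
  obtain ⟨d, g, hd, hg, hgx⟩ := exists_not_mem x
  set f := (DirectSum.decompose 𝒜 V i : A) * g with hfdef
  have hf : f ∈ 𝒜 (i + d) := SetLike.mul_mem_graded (SetLike.coe_mem _) hg
  by_contra hne
  rw [Set.not_nonempty_iff_eq_empty, Set.eq_empty_iff_forall_notMem] at hne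
  have hempty : IsEmpty (PrimeSpectrum (HomogeneousLocalization.Away ℬ (φ f))) := ⟨fun q => by
    refine hne (Proj.map φ hφ (Proj.awayι ℬ (φ f) (φ.2 hf) (Nat.lt_add_left i hd) q))
      ⟨hVU ?_, Set.mem_range_self _⟩
    have hy : Proj.awayι ℬ (φ f) (φ.2 hf) (Nat.lt_add_left i hd) q ∈ Proj.basicOpen ℬ (φ f) := by
      rw [← Proj.opensRange_awayι ℬ (φ f) (φ.2 hf) (Nat.lt_add_left i hd)]
      exact ⟨q, rfl⟩
    intro hmem
    refine hy ?_
    show φ f ∈ _
    have h := Ideal.mul_mem_right (φ g) _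
      (show φ (DirectSum.decompose 𝒜 V i : A) ∈
          (Proj.awayι ℬ (φ f) (φ.2 hf) (Nat.lt_add_left i hd) q).asHomogeneousIdeal.toIdeal from
        (Proj.map φ hφ (Proj.awayι ℬ (φ f) (φ.2 hf) (Nat.lt_add_left i hd) q)).asHomogeneousIdeal.isHomogeneous i hmem)
    rwa [← map_mul] at h⟩
  haveI : Subsingleton (HomogeneousLocalization.Away ℬ (φ f)) := PrimeSpectrum.isEmpty_iff_subsingleton.1 hempty
  have h1 : (1 : Localization.Away (φ f)) = 0 := by
    have := congrArg HomogeneousLocalization.val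
      (Subsingleton.elim (1 : HomogeneousLocalization.Away ℬ (φ f)) 0)
    rwa [HomogeneousLocalization.val_one, HomogeneousLocalization.val_zero] at this
  rw [← Localization.mk_one, ← Localization.mk_zero 1, Localization.mk_eq_mk_iff,
    Localization.r_iff_exists] at h1
  obtain ⟨⟨_, m, rfl⟩, hm⟩ := h1
  simp only [OneMemClass.coe_one, one_mul, mul_zero, mul_one] at hm
  obtain ⟨k, hk⟩ := hker (f ^ m) (by rw [map_pow]; exact hm)
  have hfx : f ∈ x.asHomogeneousIdeal := by
    refine x.isPrime.mem_of_pow_mem (m * k) ?_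
    rw [pow_mul, hk]
    exact zero_mem _
  exact (x.isPrime.mem_or_mem hfx).elim hi hgx

end Groth.Agent.ProjRed
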