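import Mathlib

/-! Generation of a graded algebra over its degree zero part. -/

set_option autoImplicit false
universe u

namespace Groth.Agent.ProjRed

variable {R A : Type u} [CommRing R] [CommRing A] [Algebra R A] (𝒜 : ℕ → Submodule R A) [GradedAlgebra 𝒜]

theorem irrelevant_eq_span_iff (E : Set A) (hE : ∀ e ∈ E, ∃ d : ℕ, 0 < d ∧ e ∈ 𝒜 d) :
    (HomogeneousIdeal.irrelevant 𝒜).toIdeal = Ideal.span E ↔ Algebra.adjoin (𝒜 0) E = ⊤ := by
  classical
  have hirr : Ideal.span E ≤ (HomogeneousIdeal.irrelevant 𝒜).toIdeal := Ideal.span_le.2 fun e he => by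
    obtain ⟨d, hd, hed⟩ := hE e he
    rw [SetLike.mem_coe, HomogeneousIdeal.mem_iff, HomogeneousIdeal.mem_irrelevant_iff, GradedRing.proj_apply,
      DirectSum.decompose_of_mem_ne 𝒜 hed hd.ne']
  constructor
  · intro h
    have key : ∀ n, ∀ a ∈ 𝒜 n, a ∈ Algebra.adjoin (𝒜 0) E := by
      intro n
      induction n using Nat.strong_induction_on with
      | _ n ih =>
        intro a ha
        rcases Nat.eq_zero_or_pos n with rfl | hn
        · exact Subalgebra.algebraMap_mem _ (⟨a, ha⟩ : 𝒜 0)
        · have hat : a ∈ Ideal.span E := by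
            rw [← h, HomogeneousIdeal.mem_iff, HomogeneousIdeal.mem_irrelevant_iff, GradedRing.proj_apply,
              DirectSum.decompose_of_mem_ne 𝒜 ha (by omega)]
          obtain ⟨c, hsupp, hc⟩ := Submodule.mem_span_set.1 hat
          rw [← DirectSum.decompose_of_mem_same 𝒜 ha, ← hc, Finsupp.sum, DirectSum.decompose_sum,
            DFinsupp.finsetSum_apply, AddSubmonoidClass.coe_finsetSum]
          refine Subalgebra.sum_mem _ fun e he => ?_
          obtain ⟨d, hd, hed⟩ := hE e (hsupp he)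
          rw [smul_eq_mul]
          by_cases hle : d ≤ n
          · rw [DirectSum.coe_decompose_mul_of_right_mem_of_le 𝒜 hed hle]
            exact mul_mem (ih (n - d) (by omega) _ (SetLike.coe_mem _))
              (Algebra.subset_adjoin (hsupp he))
          · rw [DirectSum.coe_decompose_mul_of_right_mem_of_not_le 𝒜 hed hle]
            exact zero_mem _
    refine eq_top_iff.2 fun a _ => ?_
    rw [← DirectSum.sum_support_decompose 𝒜 a]
    exact Subalgebra.sum_mem _ fun i _ => key i _ (SetLike.coe_mem _)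
  · intro h
    refine le_antisymm (fun x hx => ?_) hirr
    have key : ∀ y ∈ Algebra.adjoin (𝒜 0) E, y - GradedRing.projZeroRingHom 𝒜 y ∈ Ideal.span E := by
      intro y hy
      induction hy using Algebra.adjoin_induction with
      | mem e he =>
        obtain ⟨d, hd, hed⟩ := hE e he
        rw [GradedRing.projZeroRingHom_apply, DirectSum.decompose_of_mem_ne 𝒜 hed hd.ne', sub_zero]
        exact Ideal.subset_span he
      | algebraMap r =>
        rw [show algebraMap (𝒜 0) A r = (r : A) from rfl, GradedRing.projZeroRingHom_apply,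
          DirectSum.decompose_of_mem_same 𝒜 r.2, sub_self]
        exact zero_mem _
      | add a b _ _ ha hb =>
        rw [map_add, add_sub_add_comm]
        exact add_mem ha hb
      | mul a b _ _ ha hb =>
        rw [map_mul, show a * b - GradedRing.projZeroRingHom 𝒜 a * GradedRing.projZeroRingHom 𝒜 b =
          (a - GradedRing.projZeroRingHom 𝒜 a) * b +
            GradedRing.projZeroRingHom 𝒜 a * (b - GradedRing.projZeroRingHom 𝒜 b) by ring]
        exact add_mem (Ideal.mul_mem_right _ _ ha) (Ideal.mul_mem_left _ _ hb)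
    have := key x (by rw [h]; trivial)
    have hx0 : GradedRing.projZeroRingHom 𝒜 x = 0 := (HomogeneousIdeal.mem_irrelevant_iff 𝒜 x).1 hx
    rwa [hx0, sub_zero] at this

theorem irrelevant_fg_iff :
    (HomogeneousIdeal.irrelevant 𝒜).toIdeal.FG ↔ Algebra.FiniteType (𝒜 0) A := by
  classical
  constructor
  · rintro ⟨s, hs⟩
    let t : Finset A := s.biUnion fun a => ((DirectSum.decompose 𝒜 a).support.filter (0 < ·)).image
      (fun i => (DirectSum.decompose 𝒜 a i : A))
    have ht : ∀ e ∈ (t : Set A), ∃ d : ℕ, 0 < d ∧ e ∈ 𝒜 d := by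
      intro e he
      obtain ⟨a, -, he⟩ := Finset.mem_biUnion.1 (Finset.mem_coe.1 he)
      obtain ⟨i, hi, rfl⟩ := Finset.mem_image.1 he
      exact ⟨i, (Finset.mem_filter.1 hi).2, SetLike.coe_mem _⟩
    refine ⟨⟨t, (irrelevant_eq_span_iff 𝒜 t ht).1 (le_antisymm ?_ (Ideal.span_le.2 fun e he => ?_))⟩⟩
    · rw [← hs]
      refine Submodule.span_le.2 fun a ha => ?_
      have hai : a ∈ (HomogeneousIdeal.irrelevant 𝒜).toIdeal := hs ▸ Submodule.subset_span ha
      rw [SetLike.mem_coe, ← DirectSum.sum_support_decompose 𝒜 a]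
      refine Ideal.sum_mem _ fun i hi => ?_
      rcases Nat.eq_zero_or_pos i with rfl | hpos
      · rw [← GradedRing.proj_apply, (HomogeneousIdeal.mem_irrelevant_iff 𝒜 a).1 hai]
        exact zero_mem _
      · exact Ideal.subset_span (Finset.mem_biUnion.2
          ⟨a, ha, Finset.mem_image.2 ⟨i, Finset.mem_filter.2 ⟨hi, hpos⟩, rfl⟩⟩)
    · obtain ⟨d, hd, hed⟩ := ht e he
      rw [SetLike.mem_coe, HomogeneousIdeal.mem_iff, HomogeneousIdeal.mem_irrelevant_iff, GradedRing.proj_apply,
        DirectSum.decompose_of_mem_ne 𝒜 hed hd.ne']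
  · intro h
    obtain ⟨x, hx, hx'⟩ := GradedAlgebra.exists_finset_adjoin_eq_top_and_homogeneous_ne_zero 𝒜
    refine ⟨x, ((irrelevant_eq_span_iff 𝒜 x fun e he => ?_).2 hx).symm⟩
    obtain ⟨d, hd, hed⟩ := hx' e he
    exact ⟨d, Nat.pos_of_ne_zero hd, hed⟩

theorem isNoetherianRing_iff :
    IsNoetherianRing A ↔ IsNoetherianRing (𝒜 0) ∧ Algebra.FiniteType (𝒜 0) A := by
  constructor
  · intro h
    exact ⟨inferInstance, (irrelevant_fg_iff 𝒜).1 (IsNoetherian.noetherian _)⟩
  · rintro ⟨h1, h2⟩
    exact Algebra.FiniteType.isNoetherianRing (𝒜 0) A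

end Groth.Agent.ProjRed
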